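import Groth.Agent.Lib.ProjDim.Inter
import Groth.Agent.Lib.AffDom.LocalDim
import Groth.Agent.Lib.AffDom.Formula
import Groth.Agent.Lib.ProjPt.Basic
import Groth.Agent.Lib.ProjSp.Section
import Groth.Agent.Lib.GradedAlg.Spectrum
import Mathlib.RingTheory.Ideal.KrullsHeightTheorem
import Mathlib.AlgebraicGeometry.Morphisms.FiniteType

/-!
Morphisms from projective space to a smaller projective space are constant.
-/

set_option backward.isDefEq.respectTransparency false

universe u

open CategoryTheory CategoryTheory.Limits AlgebraicGeometry MvPolynomial HomogeneousLocalization GrothLib.AffDom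

namespace GrothLib.ProjDim

variable (k : Type u) [Field k] (n : ℕ)

theorem isIntegral_proj : IsIntegral (Proj (CohB1.polyGrading n k) : Scheme.{u}) := by
  have hred : AlgebraicGeometry.IsReduced (Proj (CohB1.polyGrading n k)) :=
    GrothLib.GradedAlg.isReduced_proj _ fun a _ h => h.eq_zero
  have h : IrreducibleSpace (Proj (CohB1.polyGrading n k)) := by
    have hcl : closure ({botPt} : Set (ProjectiveSpectrum (CohB1.polyGrading n k))) = Set.univ :=
      Set.eq_univ_of_forall fun y =>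
        (ProjectiveSpectrum.le_iff_mem_closure _ _ y).1 (bot_le : (⊥ : Ideal _) ≤ y.asHomogeneousIdeal.toIdeal)
    have h2 := (isIrreducible_singleton (x := (botPt : ProjectiveSpectrum (CohB1.polyGrading n k)))).closure
    rw [hcl] at h2
    exact { isPreirreducible_univ := h2.2, toNonempty := ⟨(botPt : ProjectiveSpectrum (CohB1.polyGrading n k))⟩ }
  exact isIntegral_of_irreducibleSpace_of_isReduced _

theorem specializes_botPt (x : ProjectiveSpectrum (CohB1.polyGrading n k)) : botPt ⤳ x :=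
  (specializes_iff_le _ _).2 (bot_le : (⊥ : Ideal _) ≤ x.asHomogeneousIdeal.toIdeal)

theorem dim_closure_botPt :
    topologicalKrullDim (closure {(botPt : ProjectiveSpectrum (CohB1.polyGrading n k))} :
      Set (ProjectiveSpectrum (CohB1.polyGrading n k))) = (n : WithBot ℕ∞) := by
  refine eq_of_add_one_eq ?_
  rw [dim_closure_add_one, show (botPt : ProjectiveSpectrum (CohB1.polyGrading n k)).asHomogeneousIdeal.toIdeal
    = ⊥ from rfl, ringKrullDim_eq_of_ringEquiv (RingEquiv.quotientBot _),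
    MvPolynomial.ringKrullDim_of_isNoetherianRing, ringKrullDim_eq_zero_of_field]
  simp

theorem locallyOfFiniteType_toSpec : LocallyOfFiniteType (CohB1.ProjSpace.toSpec n k) := by
  have hsurj : Function.Surjective (algebraMap k (CohB1.polyGrading n k 0)) := by
    rintro ⟨p, hp⟩
    obtain ⟨r, rfl⟩ : ∃ r, p = C r :=
      ⟨p.coeff 0, totalDegree_eq_zero_iff_eq_C.1 (Nat.le_zero.1 (IsHomogeneous.totalDegree_le hp))⟩
    exact ⟨r, rfl⟩
  have : IsClosedImmersion (Spec.map (CommRingCat.ofHom (algebraMap k (CohB1.polyGrading n k 0)))) :=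
    IsClosedImmersion.spec_of_surjective _ hsurj
  have : Algebra.FiniteType (CohB1.polyGrading n k 0) (MvPolynomial (Fin (n + 1)) k) := by
    rw [← RingHom.finiteType_algebraMap]
    refine RingHom.FiniteType.of_comp_finiteType (f := algebraMap k (CohB1.polyGrading n k 0)) ?_
    exact RingHom.finiteType_algebraMap.mpr (inferInstanceAs (Algebra.FiniteType k (MvPolynomial (Fin (n + 1)) k)))
  unfold CohB1.ProjSpace.toSpec
  infer_instance

variable {k n}

/-- The preimage of a coordinate hyperplane, if nonempty, has a point of dimension at least `n - 1`. -/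
theorem exists_point_notMem_preimage {m : ℕ} (f : CohB1.ProjSpace n k ⟶ CohB1.ProjSpace m k)
    (j : Fin (m + 1)) (hne : f ⁻¹ᵁ Proj.basicOpen (CohB1.polyGrading m k) (X j) ≠ ⊤) :
    ∃ x : CohB1.ProjSpace n k, f x ∉ Proj.basicOpen (CohB1.polyGrading m k) (X j) ∧
      ((n - 1 : ℕ) : WithBot ℕ∞) ≤ ptDim x := by
  have := locallyOfFiniteType_toSpec k n
  have := isIntegral_proj k n
  haveI : IsIntegral (CohB1.ProjSpace n k) := isIntegral_proj k n
  obtain ⟨x, hx⟩ : ∃ x, x ∉ f ⁻¹ᵁ Proj.basicOpen (CohB1.polyGrading m k) (X j) := by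
    by_contra! h
    exact hne (top_le_iff.1 fun y _ => h y)
  obtain ⟨i, hi⟩ : ∃ i, f x ∈ Proj.basicOpen (CohB1.polyGrading m k) (X i) := by
    have h : ⨆ i : Fin (m + 1), Proj.basicOpen (CohB1.polyGrading m k) (X i) = ⊤ := by
      refine Proj.iSup_basicOpen_eq_top' (CohB1.polyGrading m k) (fun i => X i)
        (fun i => ⟨1, isHomogeneous_X _ i⟩) (top_le_iff.mp fun p _ => ?_)
      induction p using MvPolynomial.induction_on with
      | C r => exact Subalgebra.algebraMap_mem _ (⟨C r, isHomogeneous_C _ r⟩ : CohB1.polyGrading m k 0)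
      | add p q hp hq => exact add_mem (hp trivial) (hq trivial)
      | mul_X p i hp => exact mul_mem (hp trivial) (Algebra.subset_adjoin ⟨i, rfl⟩)
    exact TopologicalSpace.Opens.mem_iSup.1 (h.ge (Set.mem_univ (f x)))
  obtain ⟨U, hU, hxU, hUi⟩ : ∃ U : (CohB1.ProjSpace n k).Opens, IsAffineOpen U ∧ x ∈ U ∧
      U ≤ f ⁻¹ᵁ Proj.basicOpen (CohB1.polyGrading m k) (X i) := by
    obtain ⟨_, ⟨U, hU, rfl⟩, hxU, hUi⟩ :=
      (CohB1.ProjSpace n k).isBasis_affineOpens.exists_subset_of_mem_open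
        (show x ∈ (f ⁻¹ᵁ Proj.basicOpen (CohB1.polyGrading m k) (X i) : Set _) from hi) (TopologicalSpace.Opens.isOpen _)
    exact ⟨U, hU, hxU, hUi⟩
  obtain ⟨g, hg⟩ := GrothLib.ProjPt.exists_eq_pt (CohB1.polyGrading m k) (isHomogeneous_X k i : _ ∈ CohB1.polyGrading m k 1)
    one_pos (U.ι ≫ f) (top_le_iff.1 fun y _ => hUi y.2)
  let t : Γ(CohB1.ProjSpace n k, U) := U.topIso.hom
    (g (Away.isLocalizationElem (isHomogeneous_X k i : _ ∈ CohB1.polyGrading m k 1)
      (isHomogeneous_X k j : _ ∈ CohB1.polyGrading m k 1)))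
  have ht : U.ι ⁻¹ᵁ (f ⁻¹ᵁ Proj.basicOpen (CohB1.polyGrading m k) (X j)) =
      U.ι ⁻¹ᵁ (CohB1.ProjSpace n k).basicOpen t := by
    rw [← Scheme.Hom.comp_preimage, hg, GrothLib.ProjPt.pt_preimage_basicOpen _ _ one_pos g
      (isHomogeneous_X k j : _ ∈ CohB1.polyGrading m k 1) one_pos,
      ← Scheme.Opens.ι_image_basicOpen_topIso_inv U t, Scheme.Hom.preimage_image_eq]
    exact congrArg _ (ConcreteCategory.congr_hom U.topIso.hom_inv_id _).symm
  have hmem : ∀ y, y ∈ U → (f y ∈ Proj.basicOpen (CohB1.polyGrading m k) (X j) ↔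
      y ∈ (CohB1.ProjSpace n k).basicOpen t) := fun y hy => by
    have := SetLike.ext_iff.1 ht ⟨y, hy⟩
    exact this
  obtain ⟨p, rfl⟩ : ∃ p, hU.fromSpec p = x := hU.range_fromSpec.ge hxU
  have hp : ∀ q, hU.fromSpec q ∈ (CohB1.ProjSpace n k).basicOpen t ↔ t ∉ q.asIdeal := fun q => by
    have h := hU.fromSpec_preimage_basicOpen t
    exact SetLike.ext_iff.1 h q
  have hpt : t ∈ p.asIdeal := by
    by_contra h
    exact hx ((hmem _ hxU).2 ((hp p).2 h))
  obtain ⟨P, hP, -⟩ := Ideal.exists_minimalPrimes_le (I := Ideal.span {t}) (J := p.asIdeal)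
    ((Ideal.span_singleton_le_iff_mem _).2 hpt)
  have := hP.1.1
  let Q : PrimeSpectrum Γ(CohB1.ProjSpace n k, U) := ⟨P, hP.1.1⟩
  have hQU : hU.fromSpec Q ∈ U := hU.range_fromSpec.le ⟨Q, rfl⟩
  refine ⟨hU.fromSpec Q, fun h => (hp Q).1 ((hmem _ hQU).1 h) (hP.1.2 (Ideal.mem_span_singleton_self t)), ?_⟩
  have : Nonempty U := ⟨⟨_, hxU⟩⟩
  obtain ⟨ψ, hψ, hψ'⟩ := GrothLib.Dim.exists_finiteType_specMap (CohB1.ProjSpace.toSpec n k) hU
  algebraize [ψ.hom]
  have : IsNoetherianRing Γ(CohB1.ProjSpace n k, U) := Algebra.FiniteType.isNoetherianRing k _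
  have hA : ringKrullDim Γ(CohB1.ProjSpace n k, U) = (n : WithBot ℕ∞) := by
    let η : PrimeSpectrum Γ(CohB1.ProjSpace n k, U) := ⟨⊥, Ideal.isPrime_bot⟩
    have h := ptDim_fromSpec (CohB1.ProjSpace.toSpec n k) hU η
    rw [show η.asIdeal = ⊥ from rfl, ringKrullDim_eq_of_ringEquiv (RingEquiv.quotientBot _)] at h
    rw [← h, ← dim_closure_botPt k n]
    refine le_antisymm (ptDim_mono (X := CohB1.ProjSpace n k) (specializes_botPt k n _))
      (ptDim_mono (X := CohB1.ProjSpace n k) ?_)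
    have hη : η ⤳ (⟨⊥, Ideal.isPrime_bot⟩ : PrimeSpectrum _) := specializes_rfl
    have hbot : (botPt : ProjectiveSpectrum (CohB1.polyGrading n k)) ∈ U :=
      (specializes_botPt k n _).mem_open U.isOpen hxU
    obtain ⟨b, hb⟩ : ∃ b, hU.fromSpec b = (botPt : ProjectiveSpectrum (CohB1.polyGrading n k)) :=
      hU.range_fromSpec.ge hbot
    rw [← hb]
    exact ((PrimeSpectrum.le_iff_specializes η b).1 bot_le).map hU.fromSpec.continuous
  rw [ptDim_fromSpec (CohB1.ProjSpace.toSpec n k) hU Q]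
  have h1 := height_add_ringKrullDim_quotient (k := k) Γ(CohB1.ProjSpace n k, U) P
  have h2 : P.height ≤ 1 := Ideal.height_le_one_of_isPrincipal_of_mem_minimalPrimes _ P hP
  obtain ⟨d, _, hd⟩ := GrothLib.Dim.exists_nat_trdeg_eq_and_ringKrullDim_eq k
    (Γ(CohB1.ProjSpace n k, U) ⧸ P)
  rw [hA, hd] at h1
  obtain ⟨h, hh⟩ := WithTop.ne_top_iff_exists.mp (Ideal.height_ne_top (I := P) Ideal.IsPrime.ne_top')
  rw [← hh] at h1 h2
  rw [show ringKrullDim (Γ(CohB1.ProjSpace n k, U) ⧸ Q.asIdeal) = (d : WithBot ℕ∞) from hd]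
  have h1' : h + d = n := by
    have : ((h + d : ℕ) : WithBot ℕ∞) = (n : WithBot ℕ∞) := by rw [Nat.cast_add]; exact h1
    exact_mod_cast this
  have h2' : h ≤ 1 := Nat.cast_le (α := ℕ∞).1 h2
  exact_mod_cast (show n - 1 ≤ d by omega)

theorem exists_preimage_basicOpen_eq_top {m : ℕ} (hmn : m < n) (f : CohB1.ProjSpace n k ⟶ CohB1.ProjSpace m k) :
    ∃ j : Fin (m + 1), f ⁻¹ᵁ Proj.basicOpen (CohB1.polyGrading m k) (X j) = ⊤ := by
  by_contra! h
  have key : ∀ i, i ≤ m + 1 → ∃ w : ProjectiveSpectrum (CohB1.polyGrading n k),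
      (∀ j : Fin (m + 1), (j : ℕ) < i → f w ∉ Proj.basicOpen (CohB1.polyGrading m k) (X j)) ∧
      ((n - i : ℕ) : WithBot ℕ∞) ≤ topologicalKrullDim (closure {w} : Set (ProjectiveSpectrum (CohB1.polyGrading n k))) := by
    intro i hi
    induction i with
    | zero => exact ⟨botPt, fun j hj => absurd hj (Nat.not_lt_zero _), by rw [dim_closure_botPt, Nat.sub_zero]⟩
    | succ i ih =>
      obtain ⟨w, hw, hwd⟩ := ih (by omega)
      obtain ⟨x, hx, hxd⟩ := exists_point_notMem_preimage f ⟨i, by omega⟩ (h _)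
      obtain ⟨z, hwz, hxz, hz⟩ := exists_common_specialization w x hwd hxd (by omega)
      refine ⟨z, fun j hj hmem => ?_, ?_⟩
      · rcases Nat.lt_succ_iff_lt_or_eq.1 hj with hj' | hj'
        · exact hw j hj' ((hwz.map f.continuous).mem_open (TopologicalSpace.Opens.isOpen _) hmem)
        · rw [show j = ⟨i, by omega⟩ from Fin.ext hj'] at hmem
          exact hx ((hxz.map f.continuous).mem_open (TopologicalSpace.Opens.isOpen _) hmem)
      · cases hD : topologicalKrullDim (closure {z} : Set (ProjectiveSpectrum (CohB1.polyGrading n k))) with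
        | bot => rw [hD] at hz; exact absurd (le_bot_iff.1 (hz.trans (WithBot.bot_add _).le)) (WithBot.coe_ne_bot)
        | coe D =>
          rw [hD] at hz
          induction D using ENat.recTopCoe with
          | top => exact WithBot.coe_le_coe.2 le_top
          | coe D =>
            have hz' : n - i + (n - 1) ≤ D + n := by
              rw [← Nat.cast_le (α := ℕ∞), ← WithBot.coe_le_coe]
              exact hz
            exact WithBot.coe_le_coe.2 (Nat.cast_le.2 (show n - (i + 1) ≤ D by omega))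
  obtain ⟨w, hw, -⟩ := key (m + 1) le_rfl
  have hc : ⨆ i : Fin (m + 1), Proj.basicOpen (CohB1.polyGrading m k) (X i) = ⊤ := by
    refine Proj.iSup_basicOpen_eq_top' (CohB1.polyGrading m k) (fun i => X i)
      (fun i => ⟨1, isHomogeneous_X _ i⟩) (top_le_iff.mp fun p _ => ?_)
    induction p using MvPolynomial.induction_on with
    | C r => exact Subalgebra.algebraMap_mem _ (⟨C r, isHomogeneous_C _ r⟩ : CohB1.polyGrading m k 0)
    | add p q hp hq => exact add_mem (hp trivial) (hq trivial)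
    | mul_X p i hp => exact mul_mem (hp trivial) (Algebra.subset_adjoin ⟨i, rfl⟩)
  obtain ⟨j, hj⟩ := TopologicalSpace.Opens.mem_iSup.1 (hc.ge (Set.mem_univ (f w)))
  exact hw j j.2 hj

/-- Global functions on projective space of positive dimension are constants. -/
theorem exists_eq_toSpec_appTop (hn : 0 < n) (s : Γ(Proj (CohB1.polyGrading n k), ⊤)) :
    ∃ c : Γ(Spec (CommRingCat.of k), ⊤), s = (CohB1.ProjSpace.toSpec n k).appTop c := by
  have := isIntegral_proj k n
  haveI : IsIntegral (CohB1.ProjSpace n k) := isIntegral_proj k n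
  let i1 : Fin (n + 1) := ⟨1, by omega⟩
  have hne : (0 : Fin (n + 1)) ≠ i1 := fun e => by simpa [i1] using congrArg Fin.val e
  have h0 : (X 0 : MvPolynomial (Fin (n + 1)) k) ∈ CohB1.polyGrading n k 1 := isHomogeneous_X k 0
  have h1 : (X i1 : MvPolynomial (Fin (n + 1)) k) ∈ CohB1.polyGrading n k 1 := isHomogeneous_X k i1
  let a0 := Proj.awayι (CohB1.polyGrading n k) (X 0) h0 one_pos
  let a1 := Proj.awayι (CohB1.polyGrading n k) (X i1) h1 one_pos
  let z0 := (Scheme.ΓSpecIso _).hom (a0.appTop s)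
  let z1 := (Scheme.ΓSpecIso _).hom (a1.appTop s)
  have e : awayMap (CohB1.polyGrading n k) h1 rfl z0 =
      awayMap (CohB1.polyGrading n k) h0 (mul_comm (X 0) (X i1)) z1 := by
    have h01 : (X 0 * X i1 : MvPolynomial (Fin (n + 1)) k) ∈ CohB1.polyGrading n k (1 + 1) :=
      SetLike.mul_mem_graded h0 h1
    have e0 := Proj.SpecMap_awayMap_awayι (CohB1.polyGrading n k) h0 one_pos h1 rfl
    have e1 := Proj.SpecMap_awayMap_awayι (CohB1.polyGrading n k) h1 one_pos h0 (mul_comm (X 0) (X i1))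
    have := congrArg (fun φ => φ.appTop s) (e0.trans e1.symm)
    simp only [Scheme.Hom.comp_appTop, CommRingCat.comp_apply] at this
    have hnat : ∀ {R S : CommRingCat.{u}} (φ : R ⟶ S) (w : Γ(Spec R, ⊤)),
        (Scheme.ΓSpecIso S).hom ((Spec.map φ).appTop w) = φ ((Scheme.ΓSpecIso R).hom w) := fun φ w =>
      ConcreteCategory.congr_hom (Scheme.ΓSpecIso_naturality φ) w
    have h2 := congrArg (Scheme.ΓSpecIso _).hom this
    rw [hnat, hnat] at h2
    exact h2
  obtain ⟨p, a, ha, hz0⟩ := Away.mk_surjective _ h0 z0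
  obtain ⟨q, b, hb, hz1⟩ := Away.mk_surjective _ h1 z1
  have e' := congrArg HomogeneousLocalization.val e
  rw [← hz0, ← hz1, awayMap_mk, awayMap_mk, Away.val_mk, Away.val_mk, Localization.mk_eq_mk_iff,
    Localization.r_iff_exists] at e'
  obtain ⟨⟨_, r, rfl⟩, hc⟩ := e'
  have hX : (X 0 * X i1 : MvPolynomial (Fin (n + 1)) k) ≠ 0 := mul_ne_zero (X_ne_zero _) (X_ne_zero _)
  have hdvd : (X 0 : MvPolynomial (Fin (n + 1)) k) ^ p ∣ a * X i1 ^ q := by
    refine ⟨b, mul_left_cancel₀ (pow_ne_zero r hX) (mul_left_cancel₀ (pow_ne_zero p (X_ne_zero i1))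
      (mul_left_cancel₀ (pow_ne_zero q (X_ne_zero 0)) ?_))⟩
    simp only at hc
    linear_combination hc
  obtain ⟨c, rfl⟩ := (X_prime (R := k) (i := (0 : Fin (n + 1)))).pow_dvd_of_dvd_mul_right p (fun h => by
    rcases (X_prime (R := k) (i := (0 : Fin (n + 1)))).dvd_of_dvd_pow h with ⟨w, hw⟩
    have := congrArg (MvPolynomial.eval fun l => if l = (0 : Fin (n + 1)) then (0 : k) else 1) hw
    simp [Ne.symm hne] at this) hdvd
  have hc0 : c = C (c.coeff 0) := by
    refine MvPolynomial.ext _ _ fun d => ?_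
    rw [coeff_C]
    split_ifs with hd
    · rw [hd]
    · have hh : (X 0 ^ p * c).IsHomogeneous p := by simpa using ha
      have := hh.coeff_eq_zero (d := Finsupp.single 0 p + d) (by
        rw [map_add, Finsupp.degree_single]
        have : d.degree ≠ 0 := fun h => hd ((Finsupp.degree_eq_zero_iff d).1 h).symm
        omega)
      rwa [X_pow_eq_monomial, coeff_monomial_mul, one_mul] at this
  let γ := c.coeff 0
  refine ⟨(Scheme.ΓSpecIso (CommRingCat.of k)).inv γ, ?_⟩
  have hinj : Function.Injective a0.appTop := by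
    have : Nontrivial (Away (CohB1.polyGrading n k) (X 0 : MvPolynomial (Fin (n + 1)) k)) :=
      (GrothLib.ProjSp.retr n k).domain_nontrivial
    have : Nonempty (a0.opensRange : (Proj (CohB1.polyGrading n k)).Opens) :=
      ⟨⟨a0 (Classical.arbitrary _), Set.mem_range_self _⟩⟩
    have e : a0.appTop = (Proj (CohB1.polyGrading n k)).presheaf.map (homOfLE le_top).op ≫ (a0.appIso ⊤).hom := by
      rw [Scheme.Hom.appIso_hom', Scheme.Hom.map_appLE]
      rfl
    rw [e]
    intro u v huv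
    have h := (ConcreteCategory.bijective_of_isIso (a0.appIso ⊤).hom).1 huv
    have : Nonempty (a0 ''ᵁ ⊤ : (Proj (CohB1.polyGrading n k)).Opens) := by
      rw [Scheme.Hom.image_top_eq_opensRange]; infer_instance
    exact map_injective_of_isIntegral _ _ h
  apply hinj
  have hb := GrothLib.ProjSp.awayι_toSpec n k
  show _ = ((CohB1.ProjSpace.toSpec n k).appTop ≫ a0.appTop) ((Scheme.ΓSpecIso (CommRingCat.of k)).inv γ)
  erw [← Scheme.Hom.comp_appTop]
  rw [show a0 ≫ CohB1.ProjSpace.toSpec n k = Spec.map (CommRingCat.ofHom (GrothLib.ProjSp.baseMap n k)) from hb]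
  refine (ConcreteCategory.bijective_of_isIso (Scheme.ΓSpecIso _).hom).1 ?_
  have hnat := ConcreteCategory.congr_hom (Scheme.ΓSpecIso_naturality (CommRingCat.ofHom (GrothLib.ProjSp.baseMap n k)))
    ((Scheme.ΓSpecIso (CommRingCat.of k)).inv γ)
  simp only [CommRingCat.comp_apply, Iso.inv_hom_id_apply] at hnat
  refine Eq.trans ?_ hnat.symm
  show z0 = GrothLib.ProjSp.baseMap n k
    ((Scheme.ΓSpecIso (CommRingCat.of k)).hom ((Scheme.ΓSpecIso (CommRingCat.of k)).inv γ))
  rw [show (Scheme.ΓSpecIso (CommRingCat.of k)).hom ((Scheme.ΓSpecIso (CommRingCat.of k)).inv γ) = γ from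
    ConcreteCategory.congr_hom (Scheme.ΓSpecIso (CommRingCat.of k)).inv_hom_id γ]
  apply HomogeneousLocalization.val_injective
  rw [← hz0, Away.val_mk, GrothLib.ProjSp.baseMap_val, ← Localization.mk_one_eq_algebraMap,
    Localization.mk_eq_mk_iff, Localization.r_iff_exists]
  refine ⟨1, ?_⟩
  simp only [OneMemClass.coe_one, one_mul]
  rw [← hc0]

/-- A morphism to a smaller projective space is constant. -/
theorem exists_eq_toSpec_comp {m : ℕ} (hmn : m < n) (f : CohB1.ProjSpace n k ⟶ CohB1.ProjSpace m k) :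
    f = CohB1.ProjSpace.toSpec n k ≫ GrothLib.ProjSp.sec n k ≫ f := by
  obtain ⟨j, hj⟩ := exists_preimage_basicOpen_eq_top hmn f
  obtain ⟨g, hg⟩ := GrothLib.ProjPt.exists_eq_pt (CohB1.polyGrading m k)
    (isHomogeneous_X k j : _ ∈ CohB1.polyGrading m k 1) one_pos f hj
  rw [hg, GrothLib.ProjPt.comp_pt, GrothLib.ProjPt.comp_pt]
  congr 1
  refine RingHom.ext fun z => ?_
  obtain ⟨c, hc⟩ := exists_eq_toSpec_appTop (by omega) (g z)
  simp only [RingHom.comp_apply]
  rw [hc]
  congr 1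
  rw [← CommRingCat.comp_apply, ← Scheme.Hom.comp_appTop, GrothLib.ProjSp.sec_toSpec]
  simp

end GrothLib.ProjDim
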