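import Groth.Agent.Lib.AffDom.Formula
import Groth.Agent.Lib.AffDom.PointDim
import Groth.Prelude.Def_CohB1
import Mathlib.RingTheory.GradedAlgebra.Radical
import Mathlib.Topology.Sober

/-!
Dimension theory of projective space through homogeneous primes.
-/

universe u

open TopologicalSpace Topology MvPolynomial AlgebraicGeometry

namespace GrothLib.ProjDim

section Top

variable {α : Type*} [TopologicalSpace α] [QuasiSober α] [T0Space α]

theorem exists_generic_of_mem_irreducibleComponents {S : Set α} (hS : IsClosed S) {C : Set S}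
    (hC : C ∈ irreducibleComponents S) :
    ∃ x ∈ S, Subtype.val '' C = closure {x} ∧ (∀ y ∈ S, y ⤳ x → y = x) ∧
      topologicalKrullDim C = topologicalKrullDim (closure {x} : Set α) := by
  have : QuasiSober S := hS.isClosedEmbedding_subtypeVal.quasiSober
  have hCc := isClosed_of_mem_irreducibleComponents C hC
  have hη := hC.1.isGenericPoint_genericPoint hCc
  let c := hC.1.genericPoint
  have him : Subtype.val '' C = closure {c.1} := by
    rw [← hη.def, ← hS.isClosedEmbedding_subtypeVal.closure_image_eq, Set.image_singleton]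
  refine ⟨c.1, c.2, him, fun y hy hyc => ?_, ?_⟩
  · have h1 : (⟨y, hy⟩ : S) ⤳ c := subtype_specializes_iff _ _ |>.2 hyc
    have hsub : C ⊆ closure {(⟨y, hy⟩ : S)} := by
      rw [← hη.def]
      exact closure_minimal (Set.singleton_subset_iff.2 h1.mem_closure) isClosed_closure
    have h2 := Set.Subset.antisymm (hC.2 isIrreducible_singleton.closure hsub) hsub
    exact congrArg Subtype.val ((show IsGenericPoint (⟨y, hy⟩ : S) C from h2).eq hη)
  · exact GrothLib.Dim.IsEmbedding.topologicalKrullDim_eq (f := fun z : C => z.1.1)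
      (Topology.IsEmbedding.subtypeVal.comp Topology.IsEmbedding.subtypeVal)
      ((Set.range_comp _ Subtype.val).trans (by rw [Subtype.range_coe]; exact him))

omit [T0Space α] in
theorem exists_point_le_dim {S : Set α} (hS : IsClosed S) (hne : S.Nonempty) (r : ℕ)
    (h : (r : WithBot ℕ∞) ≤ topologicalKrullDim S) :
    ∃ x ∈ S, (r : WithBot ℕ∞) ≤ topologicalKrullDim (closure {x} : Set α) := by
  have : QuasiSober S := hS.isClosedEmbedding_subtypeVal.quasiSober
  have : Nonempty S := hne.to_subtype
  rw [GrothLib.AffDom.topologicalKrullDim_eq_iSup] at h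
  obtain ⟨⟨x, hx⟩, hr⟩ := GrothLib.AffDom.exists_le_of_le_iSup (fun c : S => by
    refine le_iSup_of_le (RelSeries.singleton _ ⟨Set.univ, ?_, isClosed_univ⟩) le_rfl
    have : IrreducibleSpace (closure {c} : Set S) :=
      Subtype.irreducibleSpace isIrreducible_singleton.closure
    exact IrreducibleSpace.isIrreducible_univ _) r h
  refine ⟨x, hx, hr.trans (le_of_eq ?_)⟩
  exact GrothLib.Dim.IsEmbedding.topologicalKrullDim_eq (f := fun z : (closure {(⟨x, hx⟩ : S)} : Set S) => z.1.1)
    (Topology.IsEmbedding.subtypeVal.comp Topology.IsEmbedding.subtypeVal)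
    ((Set.range_comp _ Subtype.val).trans (by
      rw [Subtype.range_coe, ← hS.isClosedEmbedding_subtypeVal.closure_image_eq, Set.image_singleton]))

end Top

theorem add_one_le_add_one_iff {a b : WithBot ℕ∞} : a + 1 ≤ b + 1 ↔ a ≤ b := by
  cases a with
  | bot => simp
  | coe a =>
    cases b with
    | bot => simp
    | coe b =>
      rw [← WithBot.coe_one, ← WithBot.coe_add, ← WithBot.coe_add, WithBot.coe_le_coe, WithBot.coe_le_coe]
      exact ENat.add_le_add_iff_right ENat.one_ne_top

theorem eq_of_add_one_eq {a b : WithBot ℕ∞} (h : a + 1 = b + 1) : a = b :=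
  le_antisymm (add_one_le_add_one_iff.1 h.le) (add_one_le_add_one_iff.1 h.ge)

variable (k : Type u) [Field k] (n : ℕ)

local notation "S" => MvPolynomial (Fin (n + 1)) k
local notation "Pn" => ProjectiveSpectrum (CohB1.polyGrading n k)

instance : QuasiSober Pn := inferInstanceAs (QuasiSober (Proj (CohB1.polyGrading n k)))

instance : T0Space Pn := inferInstanceAs (T0Space (Proj (CohB1.polyGrading n k)))

/-- The maximal homogeneous ideal. -/
noncomputable def mIdeal : Ideal S := RingHom.ker (constantCoeff : S →+* k)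

instance : (mIdeal k n).IsMaximal :=
  RingHom.ker_isMaximal_of_surjective _ fun c => ⟨C c, constantCoeff_C _ c⟩

variable {k n}

theorem mem_mIdeal {a : S} : a ∈ mIdeal k n ↔ constantCoeff a = 0 := Iff.rfl

theorem proj_zero_eq (a : S) : GradedRing.proj (CohB1.polyGrading n k) 0 a = C (constantCoeff a) := by
  rw [GradedRing.proj_apply]
  refine (decomposition.decompose'_apply a 0).trans ?_
  rw [homogeneousComponent_zero]
  rfl

theorem irrelevant_eq : (HomogeneousIdeal.irrelevant (CohB1.polyGrading n k)).toIdeal = mIdeal k n := by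
  ext a
  refine (HomogeneousIdeal.mem_irrelevant_iff _ a).trans ?_
  rw [proj_zero_eq, mem_mIdeal, C_eq_zero]

theorem le_mIdeal {I : Ideal S} (hI : I.IsHomogeneous (CohB1.polyGrading n k)) (hne : I ≠ ⊤) :
    I ≤ mIdeal k n := by
  intro a ha
  by_contra h
  have h0 : C (constantCoeff a) ∈ I := by
    rw [← proj_zero_eq]
    exact hI 0 ha
  exact hne (Ideal.eq_top_of_isUnit_mem _ h0 ((isUnit_iff_ne_zero.2 h).map C))

theorem isHomogeneous_minimalPrimes {I P : Ideal S} (hI : I.IsHomogeneous (CohB1.polyGrading n k))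
    (hP : P ∈ I.minimalPrimes) : P.IsHomogeneous (CohB1.polyGrading n k) := by
  have h1 : (P.homogeneousCore (CohB1.polyGrading n k)).toIdeal ≤ P := Ideal.toIdeal_homogeneousCore_le _ _
  have h2 : I ≤ (P.homogeneousCore (CohB1.polyGrading n k)).toIdeal := by
    rw [← hI.toIdeal_homogeneousCore_eq_self]
    exact Ideal.homogeneousCore_mono _ hP.1.2
  have h3 := hP.2 ⟨hP.1.1.homogeneousCore, h2⟩ h1
  rw [← le_antisymm h1 h3]
  exact HomogeneousIdeal.isHomogeneous _

/-- The point of a relevant homogeneous prime. -/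
noncomputable def mkPt (P : Ideal S) [P.IsPrime] (hP : P.IsHomogeneous (CohB1.polyGrading n k))
    (hm : P ≠ mIdeal k n) : Pn :=
  ⟨⟨P, hP⟩, ‹_›, fun h => hm (le_antisymm (le_mIdeal hP Ideal.IsPrime.ne_top')
    (irrelevant_eq (k := k) (n := n) ▸ h))⟩

theorem lt_mIdeal (x : Pn) : x.asHomogeneousIdeal.toIdeal < mIdeal k n := by
  refine lt_of_le_of_ne (le_mIdeal x.asHomogeneousIdeal.isHomogeneous Ideal.IsPrime.ne_top') fun h => ?_
  exact x.not_irrelevant_le (show (HomogeneousIdeal.irrelevant _).toIdeal ≤ x.asHomogeneousIdeal.toIdeal by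
    rw [irrelevant_eq, h])

theorem ringKrullDim_quotient_mIdeal : ringKrullDim (S ⧸ mIdeal k n) = 0 := by
  exact ringKrullDim_eq_zero_of_isField
    ((Ideal.Quotient.maximal_ideal_iff_isField_quotient _).1 inferInstance)

theorem ne_mIdeal_of_one_le {P : Ideal S} (h : (1 : WithBot ℕ∞) ≤ ringKrullDim (S ⧸ P)) :
    P ≠ mIdeal k n := fun e => by
  rw [e, ringKrullDim_quotient_mIdeal] at h
  exact not_le.2 zero_lt_one h

theorem exists_nat_dim_quotient (P : Ideal S) [P.IsPrime] :
    ∃ d : ℕ, ringKrullDim (S ⧸ P) = d :=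
  let ⟨d, _, h⟩ := GrothLib.Dim.exists_nat_trdeg_eq_and_ringKrullDim_eq k (S ⧸ P)
  ⟨d, h⟩

/-- A prime minimal over a prime plus `r` elements loses at most `r` in dimension. -/
theorem dim_le_dim_add_card (p : Ideal S) [p.IsPrime] (F : Finset S) {q : Ideal S}
    (hq : q ∈ (p ⊔ Ideal.span (F : Set S)).minimalPrimes) :
    ringKrullDim (S ⧸ p) ≤ ringKrullDim (S ⧸ q) + (F.card : WithBot ℕ∞) := by
  classical
  have := hq.1.1
  have hpq : p ≤ q := le_sup_left.trans hq.1.2
  let π := Ideal.Quotient.mk p
  have hq' : (q.map π).IsPrime := Ideal.isPrime_map_quotientMk_of_isPrime hpq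
  have hcomap : (q.map π).comap π = q := by
    rw [Ideal.comap_map_of_surjective _ Ideal.Quotient.mk_surjective, ← RingHom.ker_eq_comap_bot,
      Ideal.mk_ker, sup_eq_left.mpr hpq]
  have hmin : q.map π ∈ (Ideal.span (F.image π : Set (S ⧸ p))).minimalPrimes := by
    refine ⟨⟨hq', Ideal.span_le.2 fun b hb => ?_⟩, fun R ⟨hR, hFR⟩ hRq => ?_⟩
    · obtain ⟨a, ha, rfl⟩ := Finset.mem_image.1 hb
      exact Ideal.mem_map_of_mem π (hq.1.2 (Ideal.mem_sup_right (Ideal.subset_span ha)))
    · have hle : R.comap π ≤ q := hcomap ▸ Ideal.comap_mono hRq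
      have hge : p ⊔ Ideal.span (F : Set S) ≤ R.comap π := by
        refine sup_le (fun a ha => ?_) (Ideal.span_le.2 fun a ha => ?_)
        · show π a ∈ R
          rw [Ideal.Quotient.eq_zero_iff_mem.2 ha]
          exact R.zero_mem
        · exact hFR (Ideal.subset_span (Finset.mem_coe.2 (Finset.mem_image_of_mem π ha)))
      have := hq.2 ⟨hR.comap π, hge⟩ hle
      exact Ideal.map_le_iff_le_comap.2 this
  have hh : (q.map π).height ≤ (F.card : ℕ∞) :=
    (Ideal.height_le_card_of_mem_minimalPrimes_span_finset hmin).trans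
      (by exact_mod_cast Finset.card_image_le)
  rw [← GrothLib.AffDom.height_add_ringKrullDim_quotient k (S ⧸ p) (q.map π),
    ringKrullDim_eq_of_ringEquiv (DoubleQuot.quotQuotEquivQuotOfLE hpq), add_comm]
  exact add_le_add le_rfl (by exact_mod_cast hh)

theorem dim_add_one_le_of_lt {p q : Ideal S} [p.IsPrime] [q.IsPrime] (h : p < q) :
    ringKrullDim (S ⧸ q) + 1 ≤ ringKrullDim (S ⧸ p) := by
  rw [show q = (⟨q, ‹_›⟩ : PrimeSpectrum S).asIdeal from rfl,
    show p = (⟨p, ‹_›⟩ : PrimeSpectrum S).asIdeal from rfl,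
    GrothLib.AffDom.ringKrullDim_quotient_eq_coheight, GrothLib.AffDom.ringKrullDim_quotient_eq_coheight]
  exact_mod_cast Order.coheight_add_one_le (show (⟨p, inferInstance⟩ : PrimeSpectrum S) < (⟨q, inferInstance⟩ : PrimeSpectrum S) from h)

/-- Cutting by a homogeneous element outside the prime drops the dimension by exactly one. -/
theorem dim_add_one_eq {p q : Ideal S} [p.IsPrime] {f : S} (hf : f ∉ p)
    (hq : q ∈ (p ⊔ Ideal.span {f}).minimalPrimes) :
    ringKrullDim (S ⧸ q) + 1 = ringKrullDim (S ⧸ p) := by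
  have := hq.1.1
  refine le_antisymm (dim_add_one_le_of_lt ?_) ?_
  · exact lt_of_le_of_ne (le_sup_left.trans hq.1.2) fun e => hf (by
      rw [e]; exact hq.1.2 (Ideal.mem_sup_right (Ideal.mem_span_singleton_self f)))
  · have := dim_le_dim_add_card p {f} (q := q) (by simpa using hq)
    simpa using this

theorem coheight_eq (x : Pn) :
    (Order.coheight x : WithBot ℕ∞) + 1 = ringKrullDim (S ⧸ x.asHomogeneousIdeal.toIdeal) := by
  refine le_antisymm ?_ ?_
  · let f : Pn → PrimeSpectrum S := fun y => ⟨y.asHomogeneousIdeal.toIdeal, y.isPrime⟩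
    have hf : StrictMono f := fun a b h => h
    rw [show x.asHomogeneousIdeal.toIdeal = (f x).asIdeal from rfl,
      GrothLib.AffDom.ringKrullDim_quotient_eq_coheight]
    let M : PrimeSpectrum S := ⟨mIdeal k n, inferInstance⟩
    suffices h : Order.coheight x + 1 ≤ Order.coheight (f x) by exact_mod_cast h
    cases hc : Order.coheight x with
    | top =>
      have := Order.coheight_le_coheight_apply_of_strictMono f hf x
      rw [hc, top_le_iff] at this
      rw [this]; exact le_top
    | coe m =>
      obtain ⟨l, hl, hlm⟩ := Order.exists_series_of_coheight_eq_coe x hc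
      let l' := (l.map f hf).snoc M (lt_mIdeal l.last)
      have := Order.length_le_coheight (p := l') (x := f x) (by simp [l', hl])
      simpa [l', hlm] using this
  · obtain ⟨d, hd⟩ := exists_nat_dim_quotient x.asHomogeneousIdeal.toIdeal
    rw [hd]
    induction d generalizing x with
    | zero => exact le_trans (by simp) (add_nonneg (WithBot.coe_le_coe.2 bot_le) zero_le_one)
    | succ d ih =>
      rcases Nat.eq_zero_or_pos d with rfl | hd0
      · simpa using le_add_of_nonneg_left (α := WithBot ℕ∞) (by
          exact_mod_cast (bot_le : (⊥ : ℕ∞) ≤ Order.coheight x))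
      obtain ⟨a, ha, hax⟩ := SetLike.exists_of_lt (lt_mIdeal x)
      obtain ⟨i, hi⟩ : ∃ i, X i ∉ x.asHomogeneousIdeal.toIdeal := by
        by_contra hall
        push Not at hall
        have key : ∀ b : S, b - C (constantCoeff b) ∈ x.asHomogeneousIdeal.toIdeal := fun b => by
          induction b using MvPolynomial.induction_on with
          | C c => simp
          | add b b' hb hb' =>
            have := Ideal.add_mem _ hb hb'
            simpa [add_sub_add_comm] using this
          | mul_X b j _ =>
            have : constantCoeff (b * X j) = 0 := by simp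
            rw [this, map_zero, sub_zero]
            exact Ideal.mul_mem_left _ _ (hall j)
        refine hax ?_
        simpa [mem_mIdeal.1 ha] using key a
      have hIhom : (x.asHomogeneousIdeal.toIdeal ⊔ Ideal.span {X i}).IsHomogeneous (CohB1.polyGrading n k) :=
        x.asHomogeneousIdeal.isHomogeneous.sup (Ideal.homogeneous_span _ _ fun y hy =>
          ⟨1, by rw [Set.mem_singleton_iff.1 hy]; exact isHomogeneous_X k i⟩)
      have hle : x.asHomogeneousIdeal.toIdeal ⊔ Ideal.span {X i} ≤ mIdeal k n :=
        sup_le (lt_mIdeal x).le ((Ideal.span_singleton_le_iff_mem _).2 (constantCoeff_X _ i))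
      obtain ⟨q, hq, -⟩ := Ideal.exists_minimalPrimes_le hle
      have hdim : ringKrullDim (S ⧸ q) = d := by
        have h := dim_add_one_eq hi hq
        rw [hd] at h
        have := hq.1.1
        obtain ⟨e, he⟩ := exists_nat_dim_quotient q
        rw [he] at h ⊢
        have : e + 1 = d + 1 := by exact_mod_cast h
        exact_mod_cast Nat.succ_injective this
      have := hq.1.1
      let y : Pn := mkPt q (isHomogeneous_minimalPrimes hIhom hq)
        (ne_mIdeal_of_one_le (by rw [hdim]; exact_mod_cast hd0))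
      have hxy : x < y := lt_of_le_of_ne (show x.asHomogeneousIdeal.toIdeal ≤ q from le_sup_left.trans hq.1.2)
        fun e => hi (by
          rw [e]
          exact hq.1.2 (Ideal.mem_sup_right (Ideal.mem_span_singleton_self _)))
      have h1 := ih y hdim
      have h2 : (Order.coheight y + 1 : ℕ∞) ≤ Order.coheight x := Order.coheight_add_one_le hxy
      calc ((d + 1 : ℕ) : WithBot ℕ∞) = (d : WithBot ℕ∞) + 1 := by push_cast; rfl
        _ ≤ ((Order.coheight y : WithBot ℕ∞) + 1) + 1 := add_le_add h1 le_rfl
        _ ≤ _ := add_le_add (by exact_mod_cast h2) le_rfl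

theorem specializes_iff_le (x y : Pn) : x ⤳ y ↔ x ≤ y := by
  rw [ProjectiveSpectrum.le_iff_mem_closure, specializes_iff_mem_closure]

attribute [local instance] specializationOrder in
theorem topologicalKrullDim_closure_eq (x : Pn) :
    topologicalKrullDim (closure {x} : Set Pn) = (Order.coheight x : WithBot ℕ∞) := by
  have : QuasiSober (closure {x} : Set Pn) := isClosed_closure.isClosedEmbedding_subtypeVal.quasiSober
  have h1 : topologicalKrullDim (closure {x} : Set Pn) =
      @Order.krullDim (closure {x} : Set Pn) (specializationPreorder _) :=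
    @Order.krullDim_eq_of_orderIso _ _ _ (specializationPreorder _) irreducibleSetEquivPoints
  rw [h1, Order.coheight_eq_krullDim_Ici, ← Order.krullDim_orderDual (α := Set.Ici x)]
  let e : @OrderIso (closure {x} : Set Pn) (Set.Ici x)ᵒᵈ (specializationPreorder _).toLE inferInstance :=
    { toFun := fun c => OrderDual.toDual ⟨c.1, (ProjectiveSpectrum.le_iff_mem_closure _ x c.1).2 c.2⟩
      invFun := fun c => ⟨(OrderDual.ofDual c).1,
        (ProjectiveSpectrum.le_iff_mem_closure _ x _).1 (OrderDual.ofDual c).2⟩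
      left_inv := fun c => rfl
      right_inv := fun c => rfl
      map_rel_iff' := fun {a b} => by
        show b.1 ≤ a.1 ↔ b ⤳ a
        rw [subtype_specializes_iff, specializes_iff_le] }
  exact @Order.krullDim_eq_of_orderIso _ _ (specializationPreorder _) _ e

/-- `dim closure {𝔭} + 1 = dim S/𝔭`. -/
theorem dim_closure_add_one (x : Pn) :
    topologicalKrullDim (closure {x} : Set Pn) + 1 = ringKrullDim (S ⧸ x.asHomogeneousIdeal.toIdeal) := by
  rw [topologicalKrullDim_closure_eq, coheight_eq]

/-- The generic point of a component of a zero locus is a minimal prime. -/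
theorem mem_minimalPrimes_of_maximal {I : Ideal S} (hI : I.IsHomogeneous (CohB1.polyGrading n k))
    {x : Pn} (hx : I ≤ x.asHomogeneousIdeal.toIdeal)
    (hmax : ∀ y : Pn, I ≤ y.asHomogeneousIdeal.toIdeal → y ⤳ x → y = x) :
    x.asHomogeneousIdeal.toIdeal ∈ I.minimalPrimes := by
  obtain ⟨q, hq, hqx⟩ := Ideal.exists_minimalPrimes_le hx
  have := hq.1.1
  let y : Pn := mkPt q (isHomogeneous_minimalPrimes hI hq) (lt_of_le_of_lt hqx (lt_mIdeal x)).ne
  have hyx : y = x := hmax y hq.1.2 ((specializes_iff_le y x).2 hqx)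
  rw [← hyx]
  exact hq

end GrothLib.ProjDim
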