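import Groth.Agent.Lib.ProjDim.Affine
import Mathlib.RingTheory.UniqueFactorizationDomain.Ideal
import Mathlib.Topology.Connected.Basic
import Mathlib.Algebra.MvPolynomial.NoZeroDivisors

/-!
Intersections in projective space.
-/

universe u

open TopologicalSpace Topology MvPolynomial AlgebraicGeometry

namespace GrothLib.ProjDim

variable {k : Type u} [Field k] {n : ℕ}

local notation "S" => MvPolynomial (Fin (n + 1)) k
local notation "Pn" => ProjectiveSpectrum (CohB1.polyGrading n k)

theorem closure_singleton_eq (x : Pn) :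
    closure {x} = ProjectiveSpectrum.zeroLocus _ (x.asHomogeneousIdeal.toIdeal : Set S) := by
  ext y
  rw [← ProjectiveSpectrum.le_iff_mem_closure]
  rfl

theorem exists_eq_closure {X : Set Pn} (hXc : IsClosed X) (hXi : IsIrreducible X) :
    ∃ x : Pn, X = closure {x} :=
  ⟨hXi.genericPoint, (hXi.isGenericPoint_genericPoint hXc).def.symm⟩

/-- Components of a zero locus are given by minimal primes. -/
theorem exists_minimalPrime_of_component {I : Ideal S} (hI : I.IsHomogeneous (CohB1.polyGrading n k))
    {C : Set ↥(ProjectiveSpectrum.zeroLocus (CohB1.polyGrading n k) (I : Set S))}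
    (hC : C ∈ irreducibleComponents _) :
    ∃ q ∈ I.minimalPrimes, topologicalKrullDim C + 1 = ringKrullDim (S ⧸ q) := by
  obtain ⟨x, hx, -, hmax, hdim⟩ :=
    exists_generic_of_mem_irreducibleComponents (ProjectiveSpectrum.isClosed_zeroLocus _ _) hC
  exact ⟨_, mem_minimalPrimes_of_maximal hI hx (fun y hy => hmax y hy),
    by rw [hdim, dim_closure_add_one]⟩

/-- A minimal prime of positive dimension gives a point of the zero locus. -/
theorem exists_point_of_minimalPrime {I : Ideal S} (hI : I.IsHomogeneous (CohB1.polyGrading n k))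
    {q : Ideal S} (hq : q ∈ I.minimalPrimes) (hd : (1 : WithBot ℕ∞) ≤ ringKrullDim (S ⧸ q)) :
    ∃ z : Pn, z.asHomogeneousIdeal.toIdeal = q ∧ z ∈ ProjectiveSpectrum.zeroLocus _ (I : Set S) := by
  have := hq.1.1
  exact ⟨mkPt q (isHomogeneous_minimalPrimes hI hq) (ne_mIdeal_of_one_le hd), rfl, hq.1.2⟩

theorem isHomogeneous_span {σ : Set S} (h : ∀ f ∈ σ, ∃ d, f.IsHomogeneous d) :
    (Ideal.span σ).IsHomogeneous (CohB1.polyGrading n k) :=
  Ideal.homogeneous_span _ _ fun f hf => h f hf

theorem closure_inter_zeroLocus (x : Pn) (σ : Set S) :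
    closure {x} ∩ ProjectiveSpectrum.zeroLocus _ σ =
      ProjectiveSpectrum.zeroLocus _ ((x.asHomogeneousIdeal.toIdeal ⊔ Ideal.span σ : Ideal S) : Set S) := by
  rw [closure_singleton_eq, ProjectiveSpectrum.zeroLocus_sup_ideal, ProjectiveSpectrum.zeroLocus_span]

/-- Two points of projective space whose dimensions add up to at least `n` have a common
specialization. -/
theorem exists_common_specialization (x y : Pn) {r s : ℕ}
    (hr : (r : WithBot ℕ∞) ≤ topologicalKrullDim (closure {x} : Set Pn))
    (hs : (s : WithBot ℕ∞) ≤ topologicalKrullDim (closure {y} : Set Pn)) (h : n ≤ r + s) :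
    ∃ z : Pn, x ⤳ z ∧ y ⤳ z ∧
      ((r + s : ℕ) : WithBot ℕ∞) ≤ topologicalKrullDim (closure {z} : Set Pn) + (n : WithBot ℕ∞) := by
  let P := x.asHomogeneousIdeal.toIdeal
  let Q := y.asHomogeneousIdeal.toIdeal
  obtain ⟨q, hq, -⟩ := Ideal.exists_minimalPrimes_le (I := P ⊔ Q) (J := mIdeal k n)
    (sup_le (lt_mIdeal x).le (lt_mIdeal y).le)
  have := hq.1.1
  have key := GrothLib.AffDom.ringKrullDim_add_le_of_mem_minimalPrimes_sup P Q q hq
  obtain ⟨d, hd⟩ := exists_nat_dim_quotient q
  obtain ⟨a, ha⟩ := exists_nat_dim_quotient P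
  obtain ⟨b, hb⟩ := exists_nat_dim_quotient Q
  have hr' := add_one_le_add_one_iff.2 hr
  have hs' := add_one_le_add_one_iff.2 hs
  rw [dim_closure_add_one] at hr' hs'
  rw [ha, hb, hd] at key
  rw [show ringKrullDim (S ⧸ x.asHomogeneousIdeal.toIdeal) = (a : WithBot ℕ∞) from ha] at hr'
  rw [show ringKrullDim (S ⧸ y.asHomogeneousIdeal.toIdeal) = (b : WithBot ℕ∞) from hb] at hs'
  have h1 : r + 1 ≤ a := by exact_mod_cast hr'
  have h2 : s + 1 ≤ b := by exact_mod_cast hs'
  have h3 : a + b ≤ d + (n + 1) := by exact_mod_cast key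
  obtain ⟨z, hz, hzI⟩ := exists_point_of_minimalPrime
    (x.asHomogeneousIdeal.isHomogeneous.sup y.asHomogeneousIdeal.isHomogeneous) hq
    (by rw [hd]; exact_mod_cast (show 1 ≤ d by omega))
  refine ⟨z, (specializes_iff_le _ _).2 (show P ≤ z.asHomogeneousIdeal.toIdeal from hz ▸ le_sup_left.trans hq.1.2),
    (specializes_iff_le _ _).2 (show Q ≤ z.asHomogeneousIdeal.toIdeal from hz ▸ le_sup_right.trans hq.1.2), ?_⟩
  have hz' := dim_closure_add_one z
  rw [hz, hd] at hz'
  refine add_one_le_add_one_iff.1 ?_
  rw [add_right_comm, hz']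
  exact_mod_cast (show r + s + 1 ≤ d + n by omega)

/-- Irreducible closed subsets correspond to points, order reversed. -/
noncomputable def closedsOrderIso : IrreducibleCloseds Pn ≃o (Pn)ᵒᵈ where
  toFun Z := OrderDual.toDual Z.2.genericPoint
  invFun x := ⟨closure {OrderDual.ofDual x}, isIrreducible_singleton.closure, isClosed_closure⟩
  left_inv Z := IrreducibleCloseds.ext (Z.2.isGenericPoint_genericPoint Z.3).def
  right_inv x := congrArg OrderDual.toDual
    ((isIrreducible_singleton (x := OrderDual.ofDual x)).closure.isGenericPoint_genericPoint isClosed_closure |>.eq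
      isGenericPoint_closure)
  map_rel_iff' {Z W} := by
    show W.2.genericPoint ≤ Z.2.genericPoint ↔ _
    rw [ProjectiveSpectrum.le_iff_mem_closure, (W.2.isGenericPoint_genericPoint W.3).def]
    refine ⟨fun h => ?_, fun h => h (Z.2.isGenericPoint_genericPoint Z.3).mem⟩
    show Z.carrier ⊆ W.carrier
    rw [← (Z.2.isGenericPoint_genericPoint Z.3).def]
    exact closure_minimal (Set.singleton_subset_iff.2 h) W.3

/-- A generator of a homogeneous principal ideal is homogeneous. -/
theorem isHomogeneous_of_span_singleton {g : S} (hg : g ≠ 0)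
    (h : (Ideal.span {g}).IsHomogeneous (CohB1.polyGrading n k)) : g.IsHomogeneous g.totalDegree := by
  have key : ∀ d, homogeneousComponent d g ≠ 0 → d = g.totalDegree := by
    intro d hd
    have hmem : homogeneousComponent d g ∈ Ideal.span {g} := by
      rw [← decomposition.decompose'_apply g d]
      exact h d (Ideal.mem_span_singleton_self g)
    obtain ⟨c, hc⟩ := Ideal.mem_span_singleton'.1 hmem
    have hc0 : c ≠ 0 := fun e => hd (by rw [← hc, e, zero_mul])
    have h1 : (homogeneousComponent d g).totalDegree = d :=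
      ((homogeneousComponent_isHomogeneous d g).totalDegree hd)
    rw [← hc, totalDegree_mul_of_isDomain hc0 hg] at h1
    have h2 : d ≤ g.totalDegree := by
      by_contra hlt
      exact hd (homogeneousComponent_eq_zero d g (not_le.1 hlt))
    omega
  conv_lhs => rw [← sum_homogeneousComponent g]
  refine IsHomogeneous.sum _ _ _ fun d _ => ?_
  rcases eq_or_ne (homogeneousComponent d g) 0 with h0 | h0
  · rw [h0]; exact isHomogeneous_zero _ _ _
  · rw [← key d h0]; exact homogeneousComponent_isHomogeneous d g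

theorem height_le_idealHeight (x : Pn) : Order.height x ≤ x.asHomogeneousIdeal.toIdeal.height := by
  let f : Pn → PrimeSpectrum S := fun y => ⟨y.asHomogeneousIdeal.toIdeal, y.isPrime⟩
  have hf : StrictMono f := fun a b h => h
  rw [show x.asHomogeneousIdeal.toIdeal = (f x).asIdeal from rfl, PrimeSpectrum.height_eq_orderHeight]
  exact Order.height_le_height_apply_of_strictMono f hf x

/-- The generic point. -/
noncomputable def botPt : Pn :=
  haveI : (⊥ : Ideal S).IsPrime := Ideal.isPrime_bot
  mkPt ⊥ (Ideal.IsHomogeneous.bot _) (fun h => by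
    have : (X 0 : S) ∈ (⊥ : Ideal S) := h ▸ (constantCoeff_X _ _ : constantCoeff (X 0 : S) = 0)
    exact X_ne_zero _ (Ideal.mem_bot.1 this))

theorem height_eq_one_iff (x : Pn) :
    Order.height x = 1 ↔
      ∃ (d : ℕ) (f : S), f.IsHomogeneous d ∧ Irreducible f ∧ x.asHomogeneousIdeal.toIdeal = Ideal.span {f} := by
  constructor
  · intro hx
    set P := x.asHomogeneousIdeal.toIdeal with hP
    have hne : P ≠ ⊥ := by
      intro h0
      have : Order.height x = 0 := le_antisymm
        ((height_le_idealHeight x).trans (by rw [← hP, h0, Ideal.height_bot])) bot_le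
      rw [this] at hx; exact zero_ne_one hx
    obtain ⟨g, hgP, hg⟩ := Ideal.IsPrime.exists_mem_prime_of_ne_bot (I := P) inferInstance hne
    obtain ⟨a, haP, ⟨e, he⟩, ha0⟩ : ∃ a ∈ P, (∃ e, a.IsHomogeneous e) ∧ a ≠ 0 := by
      by_contra hall
      push Not at hall
      refine hg.ne_zero ?_
      rw [← sum_homogeneousComponent g]
      refine Finset.sum_eq_zero fun d _ => hall _ ?_ ⟨d, homogeneousComponent_isHomogeneous d g⟩
      rw [← decomposition.decompose'_apply g d]
      exact x.asHomogeneousIdeal.isHomogeneous d hgP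
    have hhom := isHomogeneous_span (σ := {a}) (fun f hf => ⟨e, by rw [Set.mem_singleton_iff.1 hf]; exact he⟩)
    obtain ⟨q, hq, hqP⟩ := Ideal.exists_minimalPrimes_le (J := P) ((Ideal.span_singleton_le_iff_mem _).2 haP)
    have := hq.1.1
    let y : Pn := mkPt q (isHomogeneous_minimalPrimes hhom hq) (lt_of_le_of_lt hqP (lt_mIdeal x)).ne
    have hby : botPt < y := lt_of_le_of_ne (show (⊥ : Ideal S) ≤ q from bot_le) fun e => ha0 (Ideal.mem_bot.1 (by
      rw [show (⊥ : Ideal S) = q from congrArg (fun z : Pn => z.asHomogeneousIdeal.toIdeal) e]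
      exact hq.1.2 (Ideal.mem_span_singleton_self a)))
    have hyx : y = x := by
      by_contra hne'
      have h1 : y < x := lt_of_le_of_ne hqP hne'
      have h2 := Order.height_add_one_le h1
      have h3 := Order.height_add_one_le hby
      rw [hx] at h2
      have : (Order.height botPt + 1 + 1 : ℕ∞) ≤ 1 := (add_le_add h3 le_rfl).trans h2
      revert this
      cases Order.height (botPt : Pn) with
      | top => simp
      | coe m =>
        intro h4
        have : m + 1 + 1 ≤ 1 := by exact_mod_cast h4
        omega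
    have hqP' : q = P := congrArg (fun z : Pn => z.asHomogeneousIdeal.toIdeal) hyx
    subst hqP'
    have hgp : (Ideal.span {g}).IsPrime := (Ideal.span_singleton_prime hg.ne_zero).2 hg
    have hh : P.height ≤ 1 := Ideal.height_le_one_of_isPrincipal_of_mem_minimalPrimes (Ideal.span {a}) P hq
    have heq : Ideal.span {g} = P := by
      by_contra hne'
      have h1 : Ideal.span {g} < P := lt_of_le_of_ne ((Ideal.span_singleton_le_iff_mem _).2 hgP) hne'
      have h2 := Ideal.height_strict_mono_of_isPrime h1
      have h3 : (⊥ : Ideal S).height < (Ideal.span {g}).height := Ideal.height_strict_mono_of_isPrime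
        (bot_lt_iff_ne_bot.2 fun h => hg.ne_zero (Ideal.span_singleton_eq_bot.1 h))
      rw [Ideal.height_bot] at h3
      have h4 : (1 : ℕ∞) ≤ (Ideal.span {g}).height := Order.one_le_iff_pos.2 h3
      exact absurd hh (not_le.2 (lt_of_le_of_lt h4 h2))
    refine ⟨g.totalDegree, g, isHomogeneous_of_span_singleton hg.ne_zero ?_, hg.irreducible, heq.symm⟩
    rw [heq]
    exact x.asHomogeneousIdeal.isHomogeneous
  · rintro ⟨d, f, -, hf, hx⟩
    refine le_antisymm ((height_le_idealHeight x).trans ?_) ?_
    · rw [hx]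
      have : (Ideal.span {f}).IsPrime := hx ▸ inferInstance
      exact Ideal.height_le_one_of_isPrincipal_of_mem_minimalPrimes (Ideal.span {f}) _
        ⟨⟨this, le_rfl⟩, fun _ h _ => h.2⟩
    · have hlt : botPt < x := lt_of_le_of_ne (show (⊥ : Ideal S) ≤ x.asHomogeneousIdeal.toIdeal from bot_le) fun e => hf.ne_zero (Ideal.span_singleton_eq_bot.1
        (hx ▸ (congrArg (fun z : Pn => z.asHomogeneousIdeal.toIdeal) e).symm))
      exact le_trans le_add_self (Order.height_add_one_le hlt)

end GrothLib.ProjDim
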