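import Groth.Agent.Lib.ProjDim.Basic
import Groth.Agent.Lib.AffDom.Tensor

/-!
The affine dimension theorem, topologically.
-/

universe u

open TopologicalSpace Topology MvPolynomial

namespace GrothLib.ProjDim

theorem dim_closure_primeSpectrum {R : Type*} [CommRing R] (p : PrimeSpectrum R) :
    topologicalKrullDim (closure {p} : Set (PrimeSpectrum R)) = ringKrullDim (R ⧸ p.asIdeal) := by
  rw [← PrimeSpectrum.topologicalKrullDim_eq_ringKrullDim]
  refine (GrothLib.Dim.IsEmbedding.topologicalKrullDim_eq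
    (PrimeSpectrum.isClosedEmbedding_comap_of_surjective _ (Ideal.Quotient.mk p.asIdeal)
      Ideal.Quotient.mk_surjective).isEmbedding ?_).symm
  rw [range_comap_of_surjective _ _ Ideal.Quotient.mk_surjective, Ideal.mk_ker,
    PrimeSpectrum.closure_singleton]

theorem dim_closure_image {α β : Type*} [TopologicalSpace α] [TopologicalSpace β] (h : α ≃ₜ β) (x : α) :
    topologicalKrullDim (closure {h x} : Set β) = topologicalKrullDim (closure {x} : Set α) :=
  (GrothLib.Dim.IsEmbedding.topologicalKrullDim_eq (f := fun z : (closure {x} : Set α) => h z.1)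
    (h.isEmbedding.comp Topology.IsEmbedding.subtypeVal)
    ((Set.range_comp h Subtype.val).trans (by
      rw [Subtype.range_coe, h.image_closure, Set.image_singleton]))).symm

/-- Every point of a closed set lies below the generic point of one of its components. -/
theorem exists_generic_above {α : Type*} [TopologicalSpace α] [QuasiSober α] [T0Space α] {S : Set α}
    (hS : IsClosed S) {z : α} (hz : z ∈ S) :
    ∃ C ∈ irreducibleComponents S, ∃ x ∈ S, x ⤳ z ∧
      topologicalKrullDim C = topologicalKrullDim (closure {x} : Set α) := by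
  obtain ⟨C, hC, hzC⟩ :=
    exists_mem_irreducibleComponents_subset_of_isIrreducible {(⟨z, hz⟩ : S)} isIrreducible_singleton
  obtain ⟨x, hx, him, -, hdim⟩ := exists_generic_of_mem_irreducibleComponents hS hC
  exact ⟨C, hC, x, hx, specializes_iff_mem_closure.2 (him.le ⟨_, hzC rfl, rfl⟩), hdim⟩

theorem affine_dimension {α : Type*} [TopologicalSpace α] [QuasiSober α] [T0Space α] {k : Type u}
    [Field k] {n : ℕ} (h : α ≃ₜ PrimeSpectrum (MvPolynomial (Fin n) k)) {X Y : Set α}
    (hX : IsClosed X) (hY : IsClosed Y) {r s : WithBot ℕ∞}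
    (hXr : ∀ Z ∈ irreducibleComponents X, topologicalKrullDim Z = r)
    (hYs : ∀ Z ∈ irreducibleComponents Y, topologicalKrullDim Z = s)
    (Z : Set ↥(X ∩ Y)) (hZ : Z ∈ irreducibleComponents ↥(X ∩ Y)) :
    r + s ≤ topologicalKrullDim Z + (n : WithBot ℕ∞) := by
  obtain ⟨z, ⟨hzX, hzY⟩, -, hmax, hdim⟩ :=
    exists_generic_of_mem_irreducibleComponents (hX.inter hY) hZ
  obtain ⟨C, hC, x, hxX, hxz, hxdim⟩ := exists_generic_above hX hzX
  obtain ⟨D, hD, y, hyY, hyz, hydim⟩ := exists_generic_above hY hzY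
  rw [← hXr C hC, ← hYs D hD, hdim, hxdim, hydim, ← dim_closure_image h x, ← dim_closure_image h y,
    ← dim_closure_image h z, dim_closure_primeSpectrum, dim_closure_primeSpectrum, dim_closure_primeSpectrum]
  have hle : ∀ a b : α, a ⤳ b → (h a).asIdeal ≤ (h b).asIdeal := fun a b hab =>
    ((PrimeSpectrum.le_iff_specializes _ _).2 (hab.map h.continuous) : h a ≤ h b)
  refine GrothLib.AffDom.ringKrullDim_add_le_of_mem_minimalPrimes_sup _ _ _ ⟨⟨inferInstance,
    sup_le (hle _ _ hxz) (hle _ _ hyz)⟩, fun q ⟨hq, hsup⟩ hqz => ?_⟩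
  obtain ⟨w, hw⟩ := h.surjective ⟨q, hq⟩
  have hspec : ∀ a : α, (h a).asIdeal ≤ q → a ⤳ w := fun a ha => by
    have h1 : h a ⤳ h w := by
      rw [hw]; exact (PrimeSpectrum.le_iff_specializes _ _).1 ha
    simpa using h1.map h.symm.continuous
  have hwz : w ⤳ z := by
    have h1 : h w ⤳ h z := by
      rw [hw]; exact (PrimeSpectrum.le_iff_specializes _ _).1 hqz
    simpa using h1.map h.symm.continuous
  have := hmax w ⟨(hspec x (le_sup_left.trans hsup)).mem_closed hX hxX,
    (hspec y (le_sup_right.trans hsup)).mem_closed hY hyY⟩ hwz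
  rw [← this, hw]

end GrothLib.ProjDim
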